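import Groth.Agent.RefHullLib.BigOpen
import Groth.Agent.Formal2VBLib.Hom
import Groth.Agent.ExtShLib.Hcx

/-!
# The sheaf of homomorphisms and restriction along open immersions
-/

set_option autoImplicit false
set_option linter.style.haveILetI false
set_option maxHeartbeats 1000000

noncomputable section

universe u

open CategoryTheory CategoryTheory.Limits AlgebraicGeometry TopologicalSpace Opposite
set_option backward.isDefEq.respectTransparency false
set_option backward.isDefEq.respectTransparency.types false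
open ProjFormLib (ger res ger_res ger_smul ger_add ger_map exists_ger section_ext)
open CohCmpLib (stk homMod homSec hVal homMod_ext)

namespace Groth.Agent.HomRestrLib

variable {X V : Scheme.{u}} (j : V ⟶ X) [IsOpenImmersion j]

/-- The stalk of a restriction. -/
def stEquiv (E : X.Modules) (p : V) : stk (E.restrict j) p ≃+ stk E (j p) :=
  AddEquiv.ofBijective ((Scheme.Modules.restrictStalkNatIso j p).hom.app E).hom
    (ConcreteCategory.bijective_of_isIso ((Scheme.Modules.restrictStalkNatIso j p).hom.app E))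

theorem stEquiv_ger (E : X.Modules) (p : V) {W : V.Opens} (hp : p ∈ W) (m : Γ(E.restrict j, W)) :
    stEquiv j E p (ger (E.restrict j) p hp m) = ger E (j p) (show j p ∈ j ''ᵁ W from ⟨p, hp, rfl⟩) (show Γ(E, j ''ᵁ W) from m) :=
  ConcreteCategory.congr_hom (Scheme.Modules.germ_restrictStalkNatIso_hom_app j p E hp) m

/-- The local rings agree. -/
def stRing (p : V) : V.presheaf.stalk p →+* X.presheaf.stalk (j p) := (inv (j.stalkMap p)).hom

theorem stRing_germ (p : V) {W : V.Opens} (hW : p ∈ W) (r : Γ(V, W)) :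
    stRing j p (V.presheaf.germ W p hW r) = X.presheaf.germ (j ''ᵁ W) (j p) ⟨p, hW, rfl⟩ ((j.appIso W).inv r) := by
  apply (ConcreteCategory.bijective_of_isIso (j.stalkMap p)).1
  show (inv (j.stalkMap p) ≫ j.stalkMap p) _ = _
  rw [IsIso.inv_hom_id, ConcreteCategory.id_apply,
    Scheme.Hom.germ_stalkMap_apply, ← ConcreteCategory.comp_apply (j.appIso W).inv,
    Scheme.Hom.appIso_inv_app, TopCat.Presheaf.germ_res_apply']

theorem stRing_surjective (p : V) : Function.Surjective (stRing j p) :=
  (ConcreteCategory.bijective_of_isIso (inv (j.stalkMap p))).2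

theorem stEquiv_smul (E : X.Modules) (p : V) (c : V.presheaf.stalk p) (a : stk (E.restrict j) p) :
    stEquiv j E p (c • a) = stRing j p c • stEquiv j E p a := by
  obtain ⟨W₁, hW₁, a, rfl⟩ := exists_ger _ p a
  obtain ⟨W₂, hW₂, r, rfl⟩ := V.presheaf.exists_germ_eq (x := p) c
  rw [← ger_res (E.restrict j) (inf_le_left : W₁ ⊓ W₂ ≤ W₁) p ⟨hW₁, hW₂⟩ a,
    ← TopCat.Presheaf.germ_res_apply V.presheaf (homOfLE (inf_le_right : W₁ ⊓ W₂ ≤ W₂)) p ⟨hW₁, hW₂⟩ r,
    ← ger_smul, stRing_germ, stEquiv_ger, stEquiv_ger]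
  exact ger_smul E (j p) _ _ _

theorem stEquiv_natural {E E' : X.Modules} (φ : E ⟶ E') (p : V) (a : stk (E.restrict j) p) :
    stEquiv j E' p (((DerSch.stalkFunctor V p).map ((Scheme.Modules.restrictFunctor j).map φ)).hom a) =
      ((DerSch.stalkFunctor X (j p)).map φ).hom (stEquiv j E p a) := by
  obtain ⟨W, hW, a, rfl⟩ := exists_ger _ p a
  rw [ger_map, stEquiv_ger, stEquiv_ger, ger_map]
  rfl

variable (M P : X.Modules)

/-- A linear map of stalks, transported to the open subscheme. -/
def restrLin (p : V) (L : stk M (j p) →ₗ[X.presheaf.stalk (j p)] stk P (j p)) :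
    stk (M.restrict j) p →ₗ[V.presheaf.stalk p] stk (P.restrict j) p where
  toFun a := (stEquiv j P p).symm (L (stEquiv j M p a))
  map_add' a b := by rw [map_add, map_add, map_add]
  map_smul' c a := by
    apply (stEquiv j P p).injective
    rw [AddEquiv.apply_symm_apply, stEquiv_smul, map_smul, RingHom.id_apply, stEquiv_smul,
      AddEquiv.apply_symm_apply]

/-- A linear map of stalks, transported from the open subscheme. -/
def extLin (p : V) (L : stk (M.restrict j) p →ₗ[V.presheaf.stalk p] stk (P.restrict j) p) :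
    stk M (j p) →ₗ[X.presheaf.stalk (j p)] stk P (j p) where
  toFun a := stEquiv j P p (L ((stEquiv j M p).symm a))
  map_add' a b := by rw [map_add, map_add, map_add]
  map_smul' c a := by
    obtain ⟨c, rfl⟩ := stRing_surjective j p c
    rw [RingHom.id_apply, show (stEquiv j M p).symm (stRing j p c • a) = c • (stEquiv j M p).symm a from
      (stEquiv j M p).injective (by rw [AddEquiv.apply_symm_apply, stEquiv_smul, AddEquiv.apply_symm_apply]),
      map_smul, stEquiv_smul]

theorem restrLin_extLin (p : V) (L : stk (M.restrict j) p →ₗ[V.presheaf.stalk p] stk (P.restrict j) p) :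
    restrLin j M P p (extLin j M P p L) = L :=
  LinearMap.ext fun a => by
    show (stEquiv j P p).symm (stEquiv j P p (L ((stEquiv j M p).symm (stEquiv j M p a)))) = L a
    rw [AddEquiv.symm_apply_apply, AddEquiv.symm_apply_apply]

theorem restrLin_injective (p : V) : Function.Injective (restrLin j M P p) := fun L L' h =>
  LinearMap.ext fun a => by
    have := congrArg (stEquiv j P p) (LinearMap.congr_fun h ((stEquiv j M p).symm a))
    change stEquiv j P p ((stEquiv j P p).symm (L _)) = stEquiv j P p ((stEquiv j P p).symm (L' _)) at this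
    rwa [AddEquiv.apply_symm_apply, AddEquiv.apply_symm_apply, AddEquiv.apply_symm_apply] at this

theorem restrLin_add (p : V) (L L' : stk M (j p) →ₗ[X.presheaf.stalk (j p)] stk P (j p)) :
    restrLin j M P p (L + L') = restrLin j M P p L + restrLin j M P p L' :=
  LinearMap.ext fun _ => map_add (stEquiv j P p).symm _ _

theorem restrLin_zero (p : V) : restrLin j M P p 0 = 0 :=
  LinearMap.ext fun _ => map_zero (stEquiv j P p).symm

theorem restrLin_smul (p : V) (c : V.presheaf.stalk p) (L : stk M (j p) →ₗ[X.presheaf.stalk (j p)] stk P (j p)) :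
    restrLin j M P p (stRing j p c • L) = c • restrLin j M P p L :=
  LinearMap.ext fun a => (stEquiv j P p).injective (by
    change stEquiv j P p ((stEquiv j P p).symm (stRing j p c • L (stEquiv j M p a))) =
      stEquiv j P p (c • (stEquiv j P p).symm (L (stEquiv j M p a)))
    rw [AddEquiv.apply_symm_apply, stEquiv_smul, AddEquiv.apply_symm_apply])

/-- Restriction of a local homomorphism. -/
def restrSec (W : V.Opens) (s : homSec M P (j ''ᵁ W)) : homSec (M.restrict j) (P.restrict j) W :=
  ⟨fun v => restrLin j M P v.1 (s.1 ⟨j v.1, ⟨v.1, v.2, rfl⟩⟩), fun T h m => by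
    obtain ⟨q, hq⟩ := s.2 (j ''ᵁ T) (Scheme.Hom.image_mono _ h) (show Γ(M, j ''ᵁ T) from m)
    refine ⟨(show Γ(P.restrict j, T) from q), fun v hv => (stEquiv j P v).injective ?_⟩
    rw [stEquiv_ger]
    refine (hq (j v) ⟨v, hv, rfl⟩).trans ?_
    show _ = stEquiv j P v ((stEquiv j P v).symm (_ : stk P (j v)))
    rw [AddEquiv.apply_symm_apply, stEquiv_ger]⟩

theorem restrSec_bijective (W : V.Opens) : Function.Bijective (restrSec j M P W) := by
  constructor
  · intro s s' h
    refine Subtype.ext (funext fun y => ?_)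
    obtain ⟨y, v, hv, rfl⟩ := y
    exact restrLin_injective j M P v (congrFun (congrArg Subtype.val h) ⟨v, hv⟩)
  · intro t
    have hL : ∀ y : (j ''ᵁ W : X.Opens), ∃ L : stk M y.1 →ₗ[X.presheaf.stalk y.1] stk P y.1,
        ∀ (T : V.Opens) (hT : T ≤ W) (hy : y.1 ∈ j ''ᵁ T) (m : Γ(M.restrict j, T)) (q : Γ(P.restrict j, T)),
          (∀ v (hv : v ∈ T), ger (P.restrict j) v hv q = t.1 ⟨v, hT hv⟩ (ger (M.restrict j) v hv m)) →
            L (ger M y.1 hy (show Γ(M, j ''ᵁ T) from m)) = ger P y.1 hy (show Γ(P, j ''ᵁ T) from q) := by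
      rintro ⟨y, v, hv, rfl⟩
      refine ⟨extLin j M P v (t.1 ⟨v, hv⟩), fun T hT ⟨v', hv', he⟩ m q hq => ?_⟩
      obtain rfl : v' = v := j.isOpenEmbedding.injective he
      exact (congrArg (fun z => stEquiv j P v' (t.1 ⟨v', hv⟩ z))
          ((AddEquiv.symm_apply_eq _).2 (stEquiv_ger j M v' hv' m).symm)).trans
        ((congrArg (stEquiv j P v') (hq v' hv')).symm.trans (stEquiv_ger j P v' hv' q))
    choose L hL using hL
    have hs : L ∈ homSec M P (j ''ᵁ W) := fun U h m => by
      let T : V.Opens := j ⁻¹ᵁ U ⊓ W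
      have hTU : j ''ᵁ T ≤ U := fun z ⟨v, hv, he⟩ => he ▸ hv.1
      obtain ⟨q, hq⟩ := t.2 T inf_le_right (show Γ(M.restrict j, T) from res M hTU m)
      have hUT : U ≤ j ''ᵁ T := fun z hz => by
        obtain ⟨v, hv, rfl⟩ := h hz
        exact ⟨v, ⟨hz, hv⟩, rfl⟩
      refine ⟨res P hUT (show Γ(P, j ''ᵁ T) from q), fun y hy => ?_⟩
      rw [ger_res, ← ger_res M hTU y (hUT hy) m]
      exact (hL ⟨y, h hy⟩ T inf_le_right (hUT hy) (show Γ(M.restrict j, T) from res M hTU m) q hq).symm
    refine ⟨⟨L, hs⟩, Subtype.ext (funext fun v => LinearMap.ext fun a => ?_)⟩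
    obtain ⟨T, hT, m, rfl⟩ := exists_ger _ v.1 a
    rw [← ger_res _ (inf_le_left : T ⊓ W ≤ T) v.1 ⟨hT, v.2⟩ m]
    obtain ⟨q, hq⟩ := t.2 (T ⊓ W) inf_le_right (res _ inf_le_left m)
    rw [← hq v.1 ⟨hT, v.2⟩]
    refine (stEquiv j P v.1).injective ?_
    rw [stEquiv_ger]
    show stEquiv j P v.1 ((stEquiv j P v.1).symm (_ : stk P (j v.1))) = _
    rw [AddEquiv.apply_symm_apply, stEquiv_ger]
    exact hL _ _ inf_le_right _ _ q hq

/-- Restriction of the sheaf of homomorphisms. -/
def restrHom : (homMod M P).restrict j ⟶ homMod (M.restrict j) (P.restrict j) where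
  val := PresheafOfModules.homMk
    { app := fun W => AddCommGrpCat.ofHom
        { toFun := fun s => restrSec j M P W.unop (show homSec M P (j ''ᵁ W.unop) from s)
          map_zero' := Subtype.ext (funext fun v => restrLin_zero j M P v.1)
          map_add' := fun _ _ => Subtype.ext (funext fun v => restrLin_add j M P v.1 _ _) }
      naturality := fun _ _ _ => rfl }
    (fun W r s => Subtype.ext (funext fun v => by
      have h : (show homSec M P (j ''ᵁ W.unop) from
          ((j.appIso W.unop).inv (show Γ(V, W.unop) from r) • (show Γ(homMod M P, j ''ᵁ W.unop) from s))).1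
            ⟨j v.1, ⟨v.1, v.2, rfl⟩⟩ =
          stRing j v.1 (V.presheaf.germ W.unop v.1 v.2 (show Γ(V, W.unop) from r)) •
            (show homSec M P (j ''ᵁ W.unop) from s).1 ⟨j v.1, ⟨v.1, v.2, rfl⟩⟩ := by
        rw [stRing_germ]; rfl
      exact (congrArg (restrLin j M P v.1) h).trans (restrLin_smul j M P v.1 _ _)))

theorem hVal_restrHom {W : V.Opens} (s : Γ((homMod M P).restrict j, W)) (v : V) (hv : v ∈ W) :
    hVal ((restrHom j M P).app W s) v hv =
      restrLin j M P v (hVal (show Γ(homMod M P, j ''ᵁ W) from s) (j v) ⟨v, hv, rfl⟩) := rfl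

instance isIso_restrHom : IsIso (restrHom j M P) := by
  rw [Scheme.Modules.Hom.isIso_iff_isIso_app]
  intro W
  rw [ConcreteCategory.isIso_iff_bijective]
  exact restrSec_bijective j M P W

theorem restrHom_natural {P' : X.Modules} (φ : P ⟶ P') :
    (Scheme.Modules.restrictFunctor j).map (Formal2VBLib.hMap (E := M) φ) ≫ restrHom j M P' =
      restrHom j M P ≫ Formal2VBLib.hMap (E := M.restrict j) ((Scheme.Modules.restrictFunctor j).map φ) := by
  refine Scheme.Modules.hom_ext _ _ fun W => ?_
  ext s
  refine homMod_ext fun v hv => LinearMap.ext fun a => (stEquiv j P' v).injective ?_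
  change stEquiv j P' v (hVal ((restrHom j M P').app W
      (((Scheme.Modules.restrictFunctor j).map (Formal2VBLib.hMap (E := M) φ)).app W s)) v hv a) =
    stEquiv j P' v (hVal ((Formal2VBLib.hMap (E := M.restrict j) ((Scheme.Modules.restrictFunctor j).map φ)).app W
      ((restrHom j M P).app W s)) v hv a)
  rw [hVal_restrHom, Formal2VBLib.hVal_hMap, stEquiv_natural, hVal_restrHom]
  show stEquiv j P' v ((stEquiv j P' v).symm (_ : stk P' (j v))) =
    ((DerSch.stalkFunctor X (j v)).map φ).hom (stEquiv j P v ((stEquiv j P v).symm (_ : stk P (j v))))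
  rw [AddEquiv.apply_symm_apply, AddEquiv.apply_symm_apply]
  exact Formal2VBLib.hVal_hMap φ (show Γ(homMod M P, j ''ᵁ W) from s) (j v) _ _

/-- Restriction commutes with `Hom(M, -)`. -/
def restrHomFun : PnDualLib.homFun M ⋙ Scheme.Modules.restrictFunctor j ≅
    Scheme.Modules.restrictFunctor j ⋙ PnDualLib.homFun (M.restrict j) :=
  NatIso.ofComponents (fun P => asIso (restrHom j M P)) fun {P P'} φ => by
    show (Scheme.Modules.restrictFunctor j).map ((PnDualLib.homFun M).map φ) ≫ restrHom j M P' =
      restrHom j M P ≫ (PnDualLib.homFun (M.restrict j)).map ((Scheme.Modules.restrictFunctor j).map φ)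
    rw [PnDualLib.homFun_map, PnDualLib.homFun_map]
    exact restrHom_natural j M P φ

end Groth.Agent.HomRestrLib
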